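import Groth.Agent.Lib.SuppTens22.Basic
import Groth.Agent.Lib.RelAmp22.Triangle
import Groth.Agent.Lib.RelAmp22.Charts
import Groth.Agent.Lib.OX.AffineLocal
import Groth.Agent.Lib.OX.AffineApps
import Groth.Agent.Lib.OX.SingleDegree
import Groth.Agent.Lib.BCPerf20.Complex

/-! # Tensor products of perfect objects with relatively perfect objects -/

set_option autoImplicit false
set_option maxHeartbeats 1000000
set_option linter.style.haveILetI false
set_option backward.isDefEq.respectTransparency false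
universe u

open CategoryTheory CategoryTheory.Limits CategoryTheory.Pretriangulated AlgebraicGeometry HomologicalComplex

attribute [local instance] HasDerivedCategory.standard

noncomputable section

namespace GrothLib.RelPerfTensor20

open GrothLib.OX GrothLib.RelAmp22

variable {X U S : Scheme.{u}}

/-- Relatively perfect objects form a thick class. -/
theorem thick_relPerf (f : X ⟶ S) [Flat f] : TriCat.Thick (RelPerf f) where
  zero h := relPerf_zero f h
  shift n h := relPerf_shift f h n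
  cone T hT h₁ h₂ := relPerf_obj₂ f (rot_of_distTriang _ hT) h₂ (relPerf_shift f h₁ 1)
  total {A B C} i₁ p₁ i₂ p₂ h hA hB := by
    let s : C ⟶ A ⊞ B := biprod.lift p₁ p₂
    let r : A ⊞ B ⟶ C := biprod.desc i₁ i₂
    have hsr : s ≫ r = 𝟙 C := by rw [biprod.lift_desc, h]
    exact relPerf_retract f s r hsr (relPerf_obj₂ f (binaryBiproductTriangle_distinguished A B) hA hB)

/-- A thick class containing the structure sheaf contains finite free modules. -/
theorem thick_free {P : DCoh.D X → Prop} (hP : TriCat.Thick P)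
    (h : P ((DerivedCategory.singleFunctor X.Modules 0).obj (Coh.structureModule X))) (n : ℕ) :
    P ((DerivedCategory.singleFunctor X.Modules 0).obj (FlatMod.freeMod X n)) := by
  classical
  let F := DerivedCategory.singleFunctor X.Modules 0
  induction n with
  | zero =>
    refine hP.zero (F.map_isZero ((IsZero.iff_id_eq_zero _).2 ?_))
    exact Sigma.hom_ext _ _ fun i => i.elim0
  | succ n ih =>
    let ι : ∀ i : Fin (n + 1), Coh.structureModule X ⟶ FlatMod.freeMod X (n + 1) :=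
      Sigma.ι (fun _ : Fin (n + 1) => Coh.structureModule X)
    let ι' : ∀ i : Fin n, Coh.structureModule X ⟶ FlatMod.freeMod X n :=
      Sigma.ι (fun _ : Fin n => Coh.structureModule X)
    let p₁ : FlatMod.freeMod X (n + 1) ⟶ Coh.structureModule X :=
      Sigma.desc (fun i => Fin.cases (motive := fun _ => Coh.structureModule X ⟶ Coh.structureModule X) (𝟙 _) (fun _ => 0) i)
    let p₂ : FlatMod.freeMod X (n + 1) ⟶ FlatMod.freeMod X n :=
      Sigma.desc (fun i => Fin.cases (motive := fun _ => Coh.structureModule X ⟶ FlatMod.freeMod X n) 0 ι' i)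
    let i₂ : FlatMod.freeMod X n ⟶ FlatMod.freeMod X (n + 1) := Sigma.desc fun i => ι i.succ
    have htot : p₁ ≫ ι 0 + p₂ ≫ i₂ = 𝟙 _ := Sigma.hom_ext _ _ fun i => by
      refine Fin.cases ?_ (fun j => ?_) i <;> simp [p₁, p₂, i₂, ι, ι']
    refine hP.total (F.map (ι 0)) (F.map p₁) (F.map i₂) (F.map p₂) ?_ h ih
    rw [← F.map_comp, ← F.map_comp, ← F.map_add, htot, CategoryTheory.Functor.map_id]

/-- Derived tensor products commute with restriction to opens. -/
theorem nonempty_resD_ltensor (j : U ⟶ X) [IsOpenImmersion j] (M : CochainComplex X.Modules ℤ)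
    [DCoh.HasLTensorCx M] [DCoh.HasLTensorCx ((resCx j).obj M)] (K : DCoh.D X) :
    Nonempty ((resD j).obj ((DCoh.LTensorCx M).obj K) ≅
      (DCoh.LTensorCx ((resCx j).obj M)).obj ((resD j).obj K)) := by
  obtain ⟨P, hP, ⟨e⟩⟩ := exists_kflat_rep K
  obtain ⟨v⟩ := ltensorCx_value M P hP
  obtain ⟨v'⟩ := ltensorCx_value ((resCx j).obj M) _ (isKFlat_resCx j hP)
  exact ⟨(resD j).mapIso ((DCoh.LTensorCx M).mapIso e.symm ≪≫ v) ≪≫ (resDFac j).app _ ≪≫
    DerivedCategory.Q.mapIso (resTensorCxIso j P M) ≪≫ v'.symm ≪≫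
    (DCoh.LTensorCx _).mapIso (((resDFac j).app P).symm ≪≫ (resD j).mapIso e)⟩

/-- A complex of free modules tensored with a relatively perfect complex. -/
theorem relPerf_ltensor_free (f : X ⟶ S) [Flat f] (M : CochainComplex X.Modules ℤ) [DCoh.HasLTensorCx M]
    (hM : RelPerf f (DerivedCategory.Q.obj M)) (E : CochainComplex X.Modules ℤ) (a b : ℤ)
    (hab : DCoh.VanishesOutside E a b) (hfree : ∀ i, ∃ n, Nonempty (E.X i ≅ FlatMod.freeMod X n)) :
    RelPerf f ((DCoh.LTensorCx M).obj (DerivedCategory.Q.obj E)) := by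
  let Φ : DCoh.D X → Prop := fun C => ∀ n : ℤ, RelPerf f ((DCoh.LTensorCx M).obj (C⟦n⟧))
  have hΦ : TriCat.Thick Φ := BCPerf20.thick_of_triangles (DCoh.LTensorCx M) (thick_relPerf f)
    (fun h => SuppTens22.isZero_ltensor M h) (fun _ h => SuppTens22.exists_triangle_ltensor M h)
  have h1 : Φ ((DerivedCategory.singleFunctor X.Modules 0).obj (Coh.structureModule X)) := by
    intro n
    obtain ⟨u⟩ := SuppTens22.nonempty_ltensor_unit M
    exact BCPerf20.prop_shift_of_triangles (DCoh.LTensorCx M) (thick_relPerf f)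
      (fun h => SuppTens22.isZero_ltensor M h) (fun _ h => SuppTens22.exists_triangle_ltensor M h)
      (relPerf_of_iso f u.symm hM) n
  have main : Φ (DerivedCategory.Q.obj E) := by
    refine BCPerf20.bounded_terms_induction Φ (fun e h => hΦ.of_iso e h)
      (fun T hT h1 h3 => hΦ.cone _ (inv_rot_of_distTriang _ hT) (hΦ.shift (-1) h3) h1) a ?_ E b
      (fun i hi => hab i (Or.inr hi)) (fun i hi => hab i (Or.inl hi)) ?_
    · intro L hL
      exact hΦ.zero (DerivedCategory.Q.map_isZero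
        ((IsZero.iff_id_eq_zero L).2 (HomologicalComplex.hom_ext _ _ fun i => (hL i).eq_of_src _ _)))
    · intro i _ _ Y ⟨eY⟩
      obtain ⟨n, ⟨en⟩⟩ := hfree i
      exact hΦ.of_iso (((DerivedCategory.singleFunctors X.Modules).shiftIso (-i) i 0 (by omega)).app _ ≪≫
        (DerivedCategory.singleFunctor X.Modules i).mapIso (eY ≪≫ en).symm) (hΦ.shift (-i) (thick_free hΦ h1 n))
  exact relPerf_of_iso f ((DCoh.LTensorCx M).mapIso ((shiftFunctorZero (DCoh.D X) ℤ).app _)) (main 0)

/-- **Perfect tensor relatively perfect is relatively perfect.** -/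
theorem relPerf_ltensor (f : X ⟶ S) [Flat f] (M : CochainComplex X.Modules ℤ) [DCoh.HasLTensorCx M]
    (hM : RelPerf f (DerivedCategory.Q.obj M)) {K : DCoh.D X} (hK : DCoh.IsPerfect K) :
    RelPerf f ((DCoh.LTensorCx M).obj K) := by
  have key : ∀ x : X, ∃ (U : Scheme.{u}) (j : U ⟶ X) (_ : IsOpenImmersion j), x ∈ Set.range j ∧
      RelPerf (j ≫ f) ((resD j).obj ((DCoh.LTensorCx M).obj K)) := by
    intro x
    obtain ⟨W, k, hk, ⟨w, rfl⟩, E, ⟨⟨a, b, hab⟩, hfin⟩, ⟨e⟩⟩ := isPerfect_iff.1 hK x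
    classical
    choose V r hV hfr using fun i => hfin i w
    let O : W.Opens := ⟨⋂ i ∈ Finset.Icc a b, (V i : Set W),
      (Finset.Icc a b).finite_toSet.isOpen_biInter fun i _ => (V i).2⟩
    have hwO : w ∈ O := Set.mem_iInter₂.2 fun i _ => hV i
    let j := O.ι ≫ k
    refine ⟨(O : Scheme.{u}), j, inferInstance, ⟨⟨w, hwO⟩, rfl⟩, ?_⟩
    let E' := (resCx O.ι).obj E
    have hab' : DCoh.VanishesOutside E' a b := fun i hi =>
      (Scheme.Modules.restrictFunctor O.ι).map_isZero (hab i hi)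
    have hfree : ∀ i, ∃ n, Nonempty (E'.X i ≅ FlatMod.freeMod (O : Scheme.{u}) n) := fun i => by
      by_cases hi : i ∈ Finset.Icc a b
      · obtain ⟨ei⟩ := hfr i
        have hle : O ≤ V i := fun y hy => Set.mem_iInter₂.1 hy i hi
        exact ⟨r i, DCoh.exists_free_restrict_le hle ei⟩
      · refine ⟨0, ⟨IsZero.iso (hab' i (by simp at hi; omega)) ?_⟩⟩
        exact (IsZero.iff_id_eq_zero _).2 (Sigma.hom_ext _ _ fun q => q.elim0)
    haveI := hasLTensorCx ((resCx j).obj M)
    have hMj : RelPerf (j ≫ f) (DerivedCategory.Q.obj ((resCx j).obj M)) := by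
      refine relPerf_of_iso (j ≫ f) ((resDFac j).app M) ⟨fun m => isPseudoCoherentD_resD (hM.1 m) j,
        (locHasFiniteRelTorDim_iff (j ≫ f) _).2 fun y => ?_⟩
      obtain ⟨V', c, d, hy, h⟩ := (locHasFiniteRelTorDim_iff f _).1 hM.2 (j y)
      exact ⟨j ⁻¹ᵁ V', c, d, hy, fun z hz => (ampAt_resD_iff f j _ z).2 (h _ hz)⟩
    have h := relPerf_ltensor_free (j ≫ f) ((resCx j).obj M) hMj E' a b hab' hfree
    obtain ⟨c⟩ := nonempty_resD_ltensor j M K
    exact relPerf_of_iso (j ≫ f) ((DCoh.LTensorCx _).mapIso (((resDFac O.ι).app E).symm ≪≫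
      (resD O.ι).mapIso e ≪≫ (resDCompIso O.ι k).app K) ≪≫ c.symm) h
  refine ⟨fun m => isPseudoCoherentD_of_local fun x => ?_, (locHasFiniteRelTorDim_iff f _).2 fun x => ?_⟩
  · obtain ⟨U, j, hj, hx, h⟩ := key x
    exact ⟨U, j, hj, hx, h.1 m⟩
  · obtain ⟨U, j, hj, ⟨y, rfl⟩, h⟩ := key x
    obtain ⟨V', c, d, hy, hd⟩ := (locHasFiniteRelTorDim_iff (j ≫ f) _).1 h.2 y
    refine ⟨j ''ᵁ V', c, d, ⟨y, hy, rfl⟩, ?_⟩
    rintro _ ⟨z, hz, rfl⟩
    exact (ampAt_resD_iff f j _ z).1 (hd z hz)

end GrothLib.RelPerfTensor20
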